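import Groth.Prelude.Def_StrictSS
import Groth.Agent.NodalLib.CritODP
import Mathlib.RingTheory.Smooth.Basic
import Mathlib.RingTheory.Localization.Away.Basic
import Mathlib.RingTheory.FinitePresentation
import Mathlib.Algebra.Category.Ring.Constructions

/-!
# The node model algebra
-/

set_option autoImplicit false
set_option linter.style.haveILetI false

universe u

open StrictSS IsLocalRing

noncomputable section

namespace Groth.Agent.NodeModel

variable {A : Type u} [CommRing A] (a : A)

/-- the coordinates -/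
def crd (i : Fin 2) : NodeAlg A a := Ideal.Quotient.mk _ (MvPolynomial.X i)

theorem crd_mul : crd a 0 * crd a 1 = algebraMap A (NodeAlg A a) a := by
  rw [crd, crd, ← map_mul]
  exact Ideal.Quotient.eq.2 (Ideal.subset_span rfl)

theorem crd_mul_of_ne {i j : Fin 2} (h : i ≠ j) : crd a i * crd a j = algebraMap A (NodeAlg A a) a := by
  fin_cases i <;> fin_cases j
  · exact absurd rfl h
  · exact crd_mul a
  · rw [mul_comm]; exact crd_mul a
  · exact absurd rfl h

variable {B : Type u} [CommRing B]

/-- the morphism out of the model given by two elements -/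
def toHom (σ : A →+* B) (w : Fin 2 → B) (hw : w 0 * w 1 = σ a) : NodeAlg A a →+* B :=
  Ideal.Quotient.lift _ (MvPolynomial.eval₂Hom σ w) fun z hz => by
    rw [← RingHom.mem_ker]
    refine Ideal.span_le.2 ?_ hz
    rintro _ rfl
    simp [hw]

theorem toHom_crd (σ : A →+* B) (w : Fin 2 → B) (hw : w 0 * w 1 = σ a) (i : Fin 2) :
    toHom a σ w hw (crd a i) = w i := MvPolynomial.eval₂_X σ w i

theorem toHom_algebraMap (σ : A →+* B) (w : Fin 2 → B) (hw : w 0 * w 1 = σ a) (c : A) :
    toHom a σ w hw (algebraMap A (NodeAlg A a) c) = σ c := MvPolynomial.eval₂_C σ w c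

theorem hom_ext {f g : NodeAlg A a →+* B}
    (h₁ : ∀ c, f (algebraMap A (NodeAlg A a) c) = g (algebraMap A (NodeAlg A a) c))
    (h₂ : ∀ i, f (crd a i) = g (crd a i)) : f = g :=
  Ideal.Quotient.ringHom_ext (MvPolynomial.ringHom_ext h₁ h₂)

/-- base change of the model -/
def bc (ρ : A →+* B) : NodeAlg A a →+* NodeAlg B (ρ a) :=
  toHom a ((algebraMap B (NodeAlg B (ρ a))).comp ρ) (crd (ρ a)) (crd_mul (ρ a))

open CategoryTheory in
theorem isPushout (ρ : A →+* B) : IsPushout (CommRingCat.ofHom ρ) (CommRingCat.ofHom (algebraMap A (NodeAlg A a)))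
    (CommRingCat.ofHom (algebraMap B (NodeAlg B (ρ a)))) (CommRingCat.ofHom (bc a ρ)) := by
  have w : CommRingCat.ofHom ρ ≫ CommRingCat.ofHom (algebraMap B (NodeAlg B (ρ a))) =
      CommRingCat.ofHom (algebraMap A (NodeAlg A a)) ≫ CommRingCat.ofHom (bc a ρ) :=
    CommRingCat.hom_ext (RingHom.ext fun c => (toHom_algebraMap a _ _ (crd_mul (ρ a)) c).symm)
  have key : ∀ (s : Limits.PushoutCocone (CommRingCat.ofHom ρ) (CommRingCat.ofHom (algebraMap A (NodeAlg A a)))),
      s.inr.hom (crd a 0) * s.inr.hom (crd a 1) = s.inl.hom (ρ a) := fun s => by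
    rw [← map_mul, crd_mul]
    exact (ConcreteCategory.congr_hom s.condition a).symm
  refine ⟨⟨w⟩, ⟨Limits.PushoutCocone.IsColimit.mk _
    (fun s => CommRingCat.ofHom (toHom (ρ a) s.inl.hom (fun i => s.inr.hom (crd a i)) (key s))) (fun s => ?_)
    (fun s => ?_) (fun s m hm₁ hm₂ => ?_)⟩⟩
  · exact CommRingCat.hom_ext (RingHom.ext fun c => toHom_algebraMap (ρ a) _ _ (key s) c)
  · refine CommRingCat.hom_ext (hom_ext a (fun c => ?_) fun i => ?_)
    · show toHom (ρ a) _ _ (key s) (bc a ρ _) = _
      rw [bc, toHom_algebraMap]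
      exact (toHom_algebraMap (ρ a) _ _ (key s) (ρ c)).trans (ConcreteCategory.congr_hom s.condition c)
    · show toHom (ρ a) _ _ (key s) (bc a ρ _) = _
      rw [bc, toHom_crd, toHom_crd]
  · refine CommRingCat.hom_ext (hom_ext (ρ a) (fun c => ?_) fun i => ?_)
    · exact (ConcreteCategory.congr_hom hm₁ c).trans (toHom_algebraMap (ρ a) _ _ (key s) c).symm
    · refine Eq.trans ?_ (toHom_crd (ρ a) _ _ (key s) i).symm
      rw [show crd (ρ a) i = bc a ρ (crd a i) from
        (toHom_crd a _ (crd (ρ a)) (crd_mul (ρ a)) i).symm]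
      exact ConcreteCategory.congr_hom hm₂ (crd a i)

theorem smooth_away (i : Fin 2) : Algebra.Smooth A (Localization.Away (crd a i)) := by
  obtain ⟨j, hij⟩ : ∃ j, i ≠ j := ⟨i + 1, by fin_cases i <;> decide⟩
  let L := Localization.Away (Polynomial.X : Polynomial A)
  let t : L := algebraMap (Polynomial A) L Polynomial.X
  let ti : L := IsLocalization.Away.invSelf (Polynomial.X : Polynomial A)
  have ht : t * ti = 1 := IsLocalization.Away.mul_invSelf (Polynomial.X : Polynomial A)
  let w : Fin 2 → L := fun l => if l = i then t else algebraMap A L a * ti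
  have hw : w 0 * w 1 = algebraMap A L a := by
    have : w i * w j = algebraMap A L a := by
      simp only [w, if_pos, if_neg hij.symm, ↓reduceIte]
      linear_combination algebraMap A L a * ht
    fin_cases i <;> fin_cases j
    · exact absurd rfl hij
    · exact this
    · rw [mul_comm]; exact this
    · exact absurd rfl hij
  let f₀ : NodeAlg A a →ₐ[A] L :=
    { toHom a (algebraMap A L) w hw with commutes' := fun c => toHom_algebraMap a _ _ hw c }
  have hf₀ : ∀ l, f₀ (crd a l) = w l := fun l => toHom_crd a _ _ hw l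
  have hu : ∀ y : Submonoid.powers (crd a i), IsUnit (f₀ y) := by
    rintro ⟨_, n, rfl⟩
    show IsUnit (f₀ (crd a i ^ n))
    rw [map_pow, hf₀]
    simp only [w, ↓reduceIte]
    exact (IsLocalization.Away.algebraMap_isUnit (Polynomial.X : Polynomial A)).pow n
  let f : Localization.Away (crd a i) →ₐ[A] L := IsLocalization.liftAlgHom hu
  let g₀ : Polynomial A →ₐ[A] Localization.Away (crd a i) :=
    Polynomial.aeval (algebraMap (NodeAlg A a) _ (crd a i))
  have hv : ∀ y : Submonoid.powers (Polynomial.X : Polynomial A), IsUnit (g₀ y) := by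
    rintro ⟨_, n, rfl⟩
    show IsUnit (g₀ (Polynomial.X ^ n))
    rw [map_pow, show g₀ Polynomial.X = algebraMap (NodeAlg A a) _ (crd a i) from Polynomial.aeval_X _]
    exact (IsLocalization.Away.algebraMap_isUnit (crd a i)).pow n
  let g : L →ₐ[A] Localization.Away (crd a i) := IsLocalization.liftAlgHom hv
  have hgX : g t = algebraMap (NodeAlg A a) _ (crd a i) :=
    (IsLocalization.lift_eq hv Polynomial.X).trans (Polynomial.aeval_X _)
  have hfc : ∀ z, f (algebraMap (NodeAlg A a) _ z) = f₀ z := fun z => IsLocalization.lift_eq hu z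
  have h1 : f.comp g = AlgHom.id A L := by
    refine IsLocalization.algHom_ext (Submonoid.powers (Polynomial.X : Polynomial A)) (Polynomial.algHom_ext ?_)
    show f (g t) = t
    rw [hgX, hfc, hf₀]
    simp [w]
  have h2 : g.comp f = AlgHom.id A _ := by
    refine IsLocalization.algHom_ext (Submonoid.powers (crd a i)) (Ideal.Quotient.algHom_ext A
      (MvPolynomial.algHom_ext fun l => ?_))
    show g (f (algebraMap (NodeAlg A a) _ (crd a l))) = algebraMap (NodeAlg A a) _ (crd a l)
    rw [hfc, hf₀]
    by_cases hl : l = i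
    · simp only [w, hl, ↓reduceIte]
      exact hgX
    · have hlj : l = j := by fin_cases i <;> fin_cases j <;> fin_cases l <;> first | rfl | exact absurd rfl hij | exact absurd rfl hl
      simp only [w, if_neg hl]
      refine (IsLocalization.Away.algebraMap_isUnit (S := Localization.Away (crd a i)) (crd a i)).mul_left_cancel ?_
      rw [← map_mul, hlj, crd_mul_of_ne a hij, ← IsScalarTower.algebraMap_apply, ← hgX, ← map_mul,
        show t * (algebraMap A L a * ti) = algebraMap A L a by linear_combination algebraMap A L a * ht, g.commutes]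
  haveI : Algebra.Smooth A (Polynomial A) := { finitePresentation := inferInstance, formallySmooth := inferInstance }
  haveI : Algebra.Smooth (Polynomial A) L := Algebra.Smooth.of_isLocalization_Away Polynomial.X
  haveI : Algebra.Smooth A L := Algebra.Smooth.comp A (Polynomial A) L
  exact Algebra.Smooth.of_equiv (AlgEquiv.ofAlgHom g f h2 h1)

variable {K : Type u} [Field K] (c : K) (hc : c = 0)

/-- evaluation at the origin -/
def ev : NodeAlg K c →+* K := toHom c (RingHom.id K) (fun _ => 0) (by simp [hc])

include hc in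
theorem exists_sub_mem (z : NodeAlg K c) :
    z - algebraMap K (NodeAlg K c) (ev c hc z) ∈ Ideal.span {crd c 0, crd c 1} := by
  obtain ⟨z, rfl⟩ := Ideal.Quotient.mk_surjective z
  induction z using MvPolynomial.induction_on with
  | C r =>
    rw [show Ideal.Quotient.mk _ (MvPolynomial.C r) = algebraMap K (NodeAlg K c) r from rfl, ev, toHom_algebraMap,
      RingHom.id_apply, sub_self]
    exact zero_mem _
  | add p q hp hq =>
    rw [map_add, map_add, map_add, add_sub_add_comm]
    exact add_mem hp hq
  | mul_X p i _ =>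
    rw [map_mul, map_mul, show Ideal.Quotient.mk _ (MvPolynomial.X i) = crd c i from rfl,
      show ev c hc (crd c i) = 0 from toHom_crd c _ _ _ i, mul_zero, map_zero, sub_zero]
    refine Ideal.mul_mem_left _ _ (Ideal.subset_span ?_)
    fin_cases i <;> simp

include hc in
theorem eq_span {q : Ideal (NodeAlg K c)} [q.IsPrime] (hq : ∀ i, crd c i ∈ q) :
    q = Ideal.span {crd c 0, crd c 1} ∧ ∀ z ∈ q, ev c hc z = 0 := by
  have hle : Ideal.span {crd c 0, crd c 1} ≤ q := by
    rw [Ideal.span_le]
    rintro z (rfl | rfl)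
    exacts [hq 0, hq 1]
  have h : ∀ z ∈ q, ev c hc z = 0 := fun z hz => by
    by_contra h0
    have h1 : algebraMap K (NodeAlg K c) (ev c hc z) ∈ q := by
      simpa using sub_mem hz (hle (exists_sub_mem c hc z))
    exact ‹q.IsPrime›.ne_top (Ideal.eq_top_of_isUnit_mem _ h1 ((IsUnit.mk0 _ h0).map _))
  refine ⟨le_antisymm (fun z hz => ?_) hle, h⟩
  simpa [h z hz] using exists_sub_mem c hc z

include hc in
theorem crit_origin (q : Ideal (NodeAlg K c)) [q.IsPrime] (hq : ∀ i, crd c i ∈ q) (R : Type u) [CommRing R]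
    [IsLocalRing R] [Algebra (NodeAlg K c) R] [IsLocalization.AtPrime R q] : NodalLib.Crit R := by
  obtain ⟨hqe, hev⟩ := eq_span c hc hq
  refine NodalLib.crit_of_mul_eq_zero (x := algebraMap _ R (crd c 0)) (y := algebraMap _ R (crd c 1)) ?_ ?_ ?_ ?_
  · rw [← Set.image_pair, ← Ideal.map_span, ← hqe, IsLocalization.AtPrime.map_eq_maximalIdeal q R]
  · rw [← map_mul, crd_mul, (congrArg (algebraMap K (NodeAlg K c)) hc).trans (map_zero _), map_zero]
  all_goals
    rintro ⟨n, hn⟩
    rw [← map_pow, IsLocalization.map_eq_zero_iff q.primeCompl] at hn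
    obtain ⟨s, hs⟩ := hn
    refine s.2 ?_
  · let e : NodeAlg K c →+* Polynomial K := toHom c Polynomial.C ![Polynomial.X, 0] (by simp [hc])
    have h0 := congrArg e hs
    rw [map_mul, map_pow, map_zero, show e (crd c 0) = Polynomial.X from toHom_crd c _ _ _ 0, mul_eq_zero,
      or_iff_left (pow_ne_zero _ Polynomial.X_ne_zero)] at h0
    have he : (Polynomial.evalRingHom (0 : K)).comp e = ev c hc :=
      hom_ext c (fun r => by simp [e, ev, toHom_algebraMap]) (fun i => by fin_cases i <;> simp [e, ev, toHom_crd])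
    have := exists_sub_mem c hc (s : NodeAlg K c)
    rw [← he, RingHom.comp_apply, h0, map_zero, map_zero, sub_zero, ← hqe] at this
    exact this
  · let e : NodeAlg K c →+* Polynomial K := toHom c Polynomial.C ![0, Polynomial.X] (by simp [hc])
    have h0 := congrArg e hs
    rw [map_mul, map_pow, map_zero, show e (crd c 1) = Polynomial.X from toHom_crd c _ _ _ 1, mul_eq_zero,
      or_iff_left (pow_ne_zero _ Polynomial.X_ne_zero)] at h0
    have he : (Polynomial.evalRingHom (0 : K)).comp e = ev c hc :=
      hom_ext c (fun r => by simp [e, ev, toHom_algebraMap]) (fun i => by fin_cases i <;> simp [e, ev, toHom_crd])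
    have := exists_sub_mem c hc (s : NodeAlg K c)
    rw [← he, RingHom.comp_apply, h0, map_zero, map_zero, sub_zero, ← hqe] at this
    exact this

end Groth.Agent.NodeModel
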