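import Groth.Agent.NodeModel.Alg
import Groth.Agent.NodalLib.BaseChange
import Groth.Prelude.Def_SSMod

/-!
# The node model is at worst nodal; strictly semistable curves are semistable
-/

set_option autoImplicit false
set_option linter.style.haveILetI false
set_option linter.unusedSectionVars false
set_option backward.isDefEq.respectTransparency false
set_option backward.isDefEq.respectTransparency.types false
set_option maxHeartbeats 1000000

universe u

open CategoryTheory CategoryTheory.Limits AlgebraicGeometry StrictSS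

noncomputable section

namespace Groth.Agent.NodeModel

theorem smooth_spec {A B : Type u} [CommRing A] [CommRing B] [Algebra A B] [Algebra.Smooth A B] :
    Smooth (Spec.map (CommRingCat.ofHom (algebraMap A B))) := by
  rw [HasRingHomProperty.Spec_iff (P := @Smooth)]
  exact RingHom.smooth_algebraMap.2 inferInstance

theorem atWorstNodal_model (k : Type u) [Field k] (a : k) :
    @Curv2.AtWorstNodal k _ (Spec (CommRingCat.of (NodeAlg k a))) ⟨nodeToBase k a⟩ := by
  let M : Scheme.{u} := Spec (CommRingCat.of (NodeAlg k a))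
  letI oM : M.Over (Spec (CommRingCat.of k)) := ⟨nodeToBase k a⟩
  haveI hM : LocallyOfFiniteType (nodeToBase k a) := by
    rw [HasRingHomProperty.Spec_iff (P := @LocallyOfFiniteType)]
    exact RingHom.finiteType_algebraMap.2 inferInstance
  haveI : LocallyOfFiniteType (M ↘ Spec (CommRingCat.of k)) := hM
  intro x hx
  by_cases hu : ∀ i, crd a i ∈ (PrimeSpectrum.asIdeal x)
  · refine Or.inr ?_
    have ha : a = 0 := by
      by_contra h0
      have h1 : algebraMap k (NodeAlg k a) a ∈ PrimeSpectrum.asIdeal x := by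
        rw [← crd_mul]; exact Ideal.mul_mem_right _ _ (hu 0)
      exact x.isPrime.ne_top (Ideal.eq_top_of_isUnit_mem _ h1 ((IsUnit.mk0 _ h0).map _))
    let K := AlgebraicClosure k
    let c : K := algebraMap k K a
    have hc : c = 0 := by rw [show c = algebraMap k K a from rfl, ha, map_zero]
    let N : Scheme.{u} := Spec (CommRingCat.of (NodeAlg K c))
    letI oN : N.Over (Spec (CommRingCat.of K)) := ⟨nodeToBase K c⟩
    letI oW : (Curv2.bc k M K).Over (Spec (CommRingCat.of K)) := ⟨Curv2.bcSnd k M K⟩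
    haveI hN : LocallyOfFiniteType (N ↘ Spec (CommRingCat.of K)) := by
      show LocallyOfFiniteType (nodeToBase K c)
      rw [HasRingHomProperty.Spec_iff (P := @LocallyOfFiniteType)]
      exact RingHom.finiteType_algebraMap.2 inferInstance
    haveI : LocallyOfFiniteType ((Curv2.bc k M K) ↘ Spec (CommRingCat.of K)) :=
      inferInstanceAs (LocallyOfFiniteType (pullback.snd (M ↘ Spec (CommRingCat.of k)) _))
    have sq := (isPullback_SpecMap_of_isPushout _ _ _ _ (isPushout a (algebraMap k K))).flip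
    let e : N ≅ Curv2.bc k M K := sq.isoPullback
    let q : Ideal (NodeAlg K c) := RingHom.ker (ev c hc)
    haveI : q.IsPrime := RingHom.ker_isPrime _
    have hq : ∀ i, crd c i ∈ q := fun i => RingHom.mem_ker.2 (toHom_crd c _ _ _ i)
    let y : N := (⟨q, inferInstance⟩ : PrimeSpectrum _)
    refine ⟨hx, e.hom y, ?_, ?_⟩
    · rw [← Scheme.Hom.comp_apply, show e.hom ≫ Curv2.bcFst k M K = Spec.map (CommRingCat.ofHom (bc a (algebraMap k K)))
        from sq.isoPullback_hom_fst]
      refine PrimeSpectrum.ext ((eq_span a ha (q := _) fun i => ?_).1.trans (eq_span a ha (q := _) hu).1.symm)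
      show bc a (algebraMap k K) (crd a i) ∈ q
      rw [bc, toHom_crd]
      exact hq i
    · have hy : IsClosed ({y} : Set N) := by
        refine (PrimeSpectrum.isClosed_singleton_iff_isMaximal _).2 ?_
        exact RingHom.ker_isMaximal_of_surjective _ fun r => ⟨algebraMap K _ r, toHom_algebraMap c _ _ _ r⟩
      have hh : e.hom ≫ ((Curv2.bc k M K) ↘ Spec (CommRingCat.of K)) = N ↘ Spec (CommRingCat.of K) :=
        sq.isoPullback_hom_snd
      refine (NodalLib.isOrdDoublePt_iff (k := K) e.hom hh y hy).2 ?_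
      letI := Curv2.stalkAlgebra K N y
      haveI : IsLocallyNoetherian N := LocallyOfFiniteType.isLocallyNoetherian (N ↘ Spec (CommRingCat.of K))
      refine (NodalLib.isOrdDoublePt_iff_crit fun r => CurveSection.exists_stalkMap_sub_mem K hy r).2 ?_
      letI : Algebra (NodeAlg K c) (N.presheaf.stalk y) :=
        AlgebraicGeometry.StructureSheaf.stalkAlgebra (R := NodeAlg K c) y
      haveI : IsLocalization.AtPrime (N.presheaf.stalk y) q :=
        AlgebraicGeometry.StructureSheaf.IsLocalization.to_stalk (R := NodeAlg K c) y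
      exact crit_origin c hc q hq (N.presheaf.stalk y)
  · push Not at hu
    obtain ⟨i, hi⟩ := hu
    refine Or.inl ?_
    haveI := smooth_away a i
    let Y : Scheme.{u} := Spec (CommRingCat.of (Localization.Away (crd a i)))
    letI oY : Y.Over (Spec (CommRingCat.of k)) := ⟨Spec.map (CommRingCat.ofHom (algebraMap k (Localization.Away (crd a i))))⟩
    let j : Y ⟶ M := Spec.map (CommRingCat.ofHom (algebraMap (NodeAlg k a) (Localization.Away (crd a i))))
    haveI : IsOpenImmersion j := IsOpenImmersion.of_isLocalization (crd a i)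
    have hh : j ≫ (M ↘ Spec (CommRingCat.of k)) = Y ↘ Spec (CommRingCat.of k) := by
      show Spec.map _ ≫ Spec.map _ = Spec.map _
      rw [← Spec.map_comp, ← CommRingCat.ofHom_comp, ← IsScalarTower.algebraMap_eq]
    haveI : LocallyOfFiniteType (Y ↘ Spec (CommRingCat.of k)) := by
      rw [← hh]; infer_instance
    obtain ⟨z, hz⟩ : x ∈ Set.range j := by
      show x ∈ Set.range (PrimeSpectrum.comap (algebraMap (NodeAlg k a) (Localization.Away (crd a i))))
      rw [PrimeSpectrum.localization_away_comap_range _ (crd a i)]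
      exact hi
    rw [← hz]
    refine NodalLib.exists_smooth_of_etale j hh z ⊤ trivial ?_
    haveI : Smooth (Y ↘ Spec (CommRingCat.of k)) := smooth_spec (A := k) (B := Localization.Away (crd a i))
    infer_instance

variable {C D S : Scheme.{u}}

/-- the part of a fibre inside an open lifting through a chart of the base -/
theorem exists_fibre_chart (φ : C ⟶ S) (x : C) {A : CommRingCat.{u}} (j : Spec A ⟶ S) [IsOpenImmersion j]
    (U : C.Opens) (hxU : x ∈ U) (q : (U : Scheme.{u}) ⟶ Spec A) (hq : U.ι ≫ φ = q ≫ j) (s : S)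
    (z : φ.fiber s) (hz : φ.fiberι s z = x) :
    ∃ (ρ : A →+* S.residueField s) (V : (φ.fiber s).Opens) (_ : z ∈ V) (g : (V : Scheme.{u}) ⟶ U),
      IsPullback g (V.ι ≫ φ.fiberToSpecResidueField s) q (Spec.map (CommRingCat.ofHom ρ)) := by
  let c := S.fromSpecResidueField s
  have hsx : φ x = s := by
    have : φ.fiberι s z ∈ Set.range (φ.fiberι s) := ⟨z, rfl⟩
    rw [Scheme.Hom.range_fiberι, hz] at this
    exact this
  have hs : Set.range c ⊆ Set.range j := by
    rw [Scheme.range_fromSpecResidueField, Set.singleton_subset_iff]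
    refine ⟨q ⟨x, hxU⟩, ?_⟩
    rw [← Scheme.Hom.comp_apply, ← hq, Scheme.Hom.comp_apply]
    exact hsx
  let r := IsOpenImmersion.lift j c hs
  refine ⟨(Spec.preimage r).hom, φ.fiberι s ⁻¹ᵁ U, by rw [Scheme.Hom.mem_preimage, hz]; exact hxU,
    (φ.fiberι s) ∣_ U, ?_⟩
  rw [show CommRingCat.ofHom (Spec.preimage r).hom = Spec.preimage r from rfl, Spec.map_preimage]
  have h := (isPullback_morphismRestrict (φ.fiberι s) U).paste_vert
    (IsPullback.of_hasPullback φ (S.fromSpecResidueField s))
  have h' : IsPullback ((φ.fiberι s) ∣_ U) ((φ.fiberι s ⁻¹ᵁ U).ι ≫ φ.fiberToSpecResidueField s) (q ≫ j) (r ≫ j) := by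
    rw [← hq, IsOpenImmersion.lift_fac]
    exact h
  refine ⟨⟨(cancel_mono j).1 (by rw [Category.assoc, Category.assoc]; exact h'.w)⟩, ⟨PullbackCone.IsLimit.mk _
    (fun t => h'.lift t.fst t.snd (by rw [← Category.assoc, t.condition, Category.assoc]))
    (fun t => h'.lift_fst _ _ _) (fun t => h'.lift_snd _ _ _)
    (fun t m hm₁ hm₂ => h'.hom_ext (hm₁.trans (h'.lift_fst _ _ _).symm) (hm₂.trans (h'.lift_snd _ _ _).symm))⟩⟩

theorem good_at (φ : C ⟶ S) [LocallyOfFinitePresentation φ] (i : D ⟶ C) (s : S) (z : φ.fiber s)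
    (hc : IsClosed ({z} : Set (φ.fiber s)))
    (hch : HasLineChartAt φ i (φ.fiberι s z) ∨ HasNodeChartAt φ i (φ.fiberι s z)) :
    letI : (φ.fiber s).Over (Spec (S.residueField s)) := ⟨φ.fiberToSpecResidueField s⟩
    (∃ U : (φ.fiber s).Opens, z ∈ U ∧ Smooth (U.ι ≫ φ.fiberToSpecResidueField s)) ∨
      Curv2.IsNode (S.residueField s) (φ.fiber s) z := by
  letI : (φ.fiber s).Over (Spec (CommRingCat.of (S.residueField s))) := ⟨φ.fiberToSpecResidueField s⟩
  rcases hch with ⟨A, j, hj, U, hxU, q, hq, f, fD, hf, hfq, -, -⟩ | ⟨A, j, hj, U, hxU, q, hq, a, f, hf, hfq, -⟩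
  · haveI := hf
    obtain ⟨ρ, V, hzV, g, sq⟩ := exists_fibre_chart φ _ j U hxU q hq s z rfl
    refine Or.inl ⟨V, hzV, ?_⟩
    haveI : Smooth (lineToBase A) := by
      haveI : Algebra.Smooth A (Polynomial A) := { finitePresentation := inferInstance, formallySmooth := inferInstance }
      exact smooth_spec (A := A) (B := Polynomial A)
    haveI : Smooth q := by rw [← hfq]; infer_instance
    exact MorphismProperty.of_isPullback sq inferInstance
  · haveI := hf
    obtain ⟨ρ, V, hzV, g, sq⟩ := exists_fibre_chart φ _ j U hxU q hq s z rfl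
    let k : Type u := S.residueField s
    let P : Scheme.{u} := Spec (CommRingCat.of (NodeAlg k (ρ a)))
    letI oP : P.Over (Spec (CommRingCat.of k)) := ⟨nodeToBase k (ρ a)⟩
    letI oV : (V : Scheme.{u}).Over (Spec (CommRingCat.of k)) := ⟨V.ι ≫ φ.fiberToSpecResidueField s⟩
    haveI : LocallyOfFiniteType (P ↘ Spec (CommRingCat.of k)) := by
      show LocallyOfFiniteType (nodeToBase k (ρ a))
      rw [HasRingHomProperty.Spec_iff (P := @LocallyOfFiniteType)]
      exact RingHom.finiteType_algebraMap.2 inferInstance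
    haveI : LocallyOfFiniteType ((φ.fiber s) ↘ Spec (CommRingCat.of k)) :=
      inferInstanceAs (LocallyOfFiniteType (φ.fiberToSpecResidueField s))
    haveI : LocallyOfFiniteType ((V : Scheme.{u}) ↘ Spec (CommRingCat.of k)) :=
      inferInstanceAs (LocallyOfFiniteType (V.ι ≫ φ.fiberToSpecResidueField s))
    have sqP := (isPullback_SpecMap_of_isPushout _ _ _ _ (isPushout (A := A) a ρ)).flip
    have w : (g ≫ f) ≫ nodeToBase A a = (V.ι ≫ φ.fiberToSpecResidueField s) ≫ Spec.map (CommRingCat.ofHom ρ) := by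
      rw [Category.assoc, hfq, sq.w]
    let h : (V : Scheme.{u}) ⟶ P := sqP.lift (g ≫ f) (V.ι ≫ φ.fiberToSpecResidueField s) w
    have hh : h ≫ (P ↘ Spec (CommRingCat.of k)) = (V : Scheme.{u}) ↘ Spec (CommRingCat.of k) := sqP.lift_snd _ _ _
    haveI : Etale h := by
      refine MorphismProperty.of_isPullback (P := @Etale) (IsPullback.of_bot ?_ (sqP.lift_fst _ _ _).symm sqP) hf
      rw [hfq, show h ≫ _ = V.ι ≫ φ.fiberToSpecResidueField s from sqP.lift_snd _ _ _]
      exact sq
    have hV := NodalLib.atWorstNodal_of_etale (k := k) h hh (atWorstNodal_model k (ρ a))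
    exact NodalLib.good_of_image (k := k) V.ι rfl hV ⟨z, hzV⟩ hc

theorem isSemistable (φ : C ⟶ S) (i : D ⟶ C) (h : IsStrictlySemistable φ i) : SSMod.IsSemistable φ i := by
  obtain ⟨hmp, hch⟩ := h
  obtain ⟨hfl, hlfp, -, -, hrd, hi, -⟩ := id hmp
  haveI := hfl
  haveI := hlfp
  haveI := hi
  refine ⟨hmp, ⟨hfl, hlfp, fun s => ⟨hrd s, fun z hz => good_at φ i s z hz (hch _)⟩⟩, ?_, ?_⟩
  · have key : ∀ d : D, ∃ V : D.Opens, d ∈ V ∧ Etale (V.ι ≫ i ≫ φ) := fun d => by
      rcases hch (i d) with ⟨A, j, hj, U, hxU, q, hq, f, fD, hf, hfq, hfD, hsq⟩ | ⟨A, j, hj, U, hxU, q, hq, a, f, hf, hfq, hdis⟩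
      · refine ⟨i ⁻¹ᵁ U, hxU, ?_⟩
        rw [← Category.assoc, ← morphismRestrict_ι, Category.assoc, hq, ← hfq, Category.assoc, ← Category.assoc,
          ← hsq, Category.assoc, ← Category.assoc (lineZero A)]
        have : lineZero A ≫ lineToBase A = 𝟙 _ := by
          show Spec.map _ ≫ Spec.map _ = _
          rw [← Spec.map_comp, ← CommRingCat.ofHom_comp,
            show (Polynomial.evalRingHom (0 : A)).comp Polynomial.C = RingHom.id A from
              RingHom.ext fun r => Polynomial.eval_C]
          exact Spec.map_id _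
        rw [this, Category.id_comp]
        haveI := hfD
        infer_instance
      · exact absurd ⟨i d, ⟨d, rfl⟩, hxU⟩ (Set.not_nonempty_iff_eq_empty.2 (Set.disjoint_iff_inter_eq_empty.1 hdis))
    choose V hV hVe using key
    exact (IsZariskiLocalAtSource.iff_of_iSup_eq_top (P := @Etale) V
      (top_le_iff.1 fun d _ => TopologicalSpace.Opens.mem_iSup.2 ⟨d, hV d⟩)).2 hVe
  · rw [Set.disjoint_left]
    rintro x ⟨d, rfl⟩ hx
    rcases hch (i d) with ⟨A, j, hj, U, hxU, q, hq, f, fD, hf, hfq, -, -⟩ | ⟨A, j, hj, U, hxU, q, hq, a, f, hf, hfq, hdis⟩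
    · refine hx ?_
      haveI := hf
      haveI : Smooth (lineToBase A) := by
        haveI : Algebra.Smooth A (Polynomial A) := { finitePresentation := inferInstance, formallySmooth := inferInstance }
        exact smooth_spec (A := A) (B := Polynomial A)
      haveI : Smooth (U.ι ≫ φ) := by rw [hq, ← hfq]; infer_instance
      have h1 : (⟨i d, hxU⟩ : U.toScheme) ∈ (U.ι ≫ φ).smoothLocus := by
        rw [Scheme.Hom.smoothLocus_eq_top]; trivial
      rw [← Scheme.Hom.preimage_smoothLocus_eq] at h1
      exact h1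
    · exact Set.disjoint_left.1 hdis ⟨d, rfl⟩ hxU

end Groth.Agent.NodeModel
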